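import Mathlib

set_option autoImplicit false
set_option linter.unusedSectionVars false

noncomputable section

namespace Groth.Agent.ASH1

open PowerSeries

universe u

/-- The data of an order `p` substitution with break `n`. -/
structure Dat (k : Type u) [Field k] (p n : ℕ) where
  hn : 0 < n
  hpn : ¬ p ∣ n
  U : (PowerSeries k)ˣ
  hu1 : constantCoeff (U : PowerSeries k) = 1
  hun : (U : PowerSeries k) ^ n * (1 + X ^ n) = 1

variable {k : Type u} [Field k] {p n : ℕ}

namespace Dat

variable (D : Dat k p n)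

/-- build the data -/
def ofSeries (hn : 0 < n) (hpn : ¬ p ∣ n) (u : PowerSeries k) (hu1 : constantCoeff u = 1)
    (hun : u ^ n * (1 + X ^ n) = 1) : Dat k p n where
  hn := hn
  hpn := hpn
  U := (isUnit_iff_constantCoeff.mpr (by rw [hu1]; exact isUnit_one) : IsUnit u).unit
  hu1 := hu1
  hun := hun

theorem hasSubst : HasSubst (X * (D.U : PowerSeries k)) :=
  HasSubst.of_constantCoeff_zero' (by simp)

/-- the substitution `t ↦ t u` -/
def τ : PowerSeries k →ₐ[k] PowerSeries k := substAlgHom D.hasSubst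

theorem τ_apply (f : PowerSeries k) : D.τ f = subst (X * (D.U : PowerSeries k)) f := by
  rw [τ, coe_substAlgHom]

theorem τ_X : D.τ X = X * (D.U : PowerSeries k) := by rw [τ_apply, subst_X D.hasSubst]

theorem constantCoeff_τ (f : PowerSeries k) : constantCoeff (D.τ f) = constantCoeff f := by
  have h : X ∣ f - C (constantCoeff f) := X_dvd_iff.mpr (by simp)
  obtain ⟨r, hr⟩ := h
  have hf : f = C (constantCoeff f) + X * r := by rw [← hr]; ring
  conv_lhs => rw [hf]
  rw [map_add, map_mul, τ_X, ← algebraMap_eq, AlgHom.commutes]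
  simp

theorem inv_U_pow : ((D.U⁻¹ : (PowerSeries k)ˣ) : PowerSeries k) ^ n = 1 + X ^ n := by
  have : ((D.U ^ n : (PowerSeries k)ˣ) : PowerSeries k) * (1 + X ^ n) = 1 := by
    rw [Units.val_pow_eq_pow_val]; exact D.hun
  rw [← Units.val_pow_eq_pow_val, inv_pow]
  exact Units.inv_eq_of_mul_eq_one_right this

/-- `τ^l X = X * v l` -/
def v : ℕ → (PowerSeries k)ˣ
  | 0 => 1
  | l + 1 => D.U * Units.map (D.τ : PowerSeries k →* PowerSeries k) (v l)

theorem v_spec (l : ℕ) : constantCoeff (D.v l : PowerSeries k) = 1 ∧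
    (D.v l : PowerSeries k) ^ n * (1 + (l : PowerSeries k) * X ^ n) = 1 := by
  induction l with
  | zero => simp [v]
  | succ l ih =>
    have hv : (D.v (l + 1) : PowerSeries k) = (D.U : PowerSeries k) * D.τ (D.v l) := rfl
    refine ⟨by rw [hv, map_mul, D.hu1, constantCoeff_τ, ih.1, one_mul], ?_⟩
    have h2 := congrArg D.τ ih.2
    rw [map_mul, map_pow, map_add, map_mul, map_pow, τ_X, map_natCast, map_one, mul_pow] at h2
    rw [hv, mul_pow]
    push_cast
    have h1 := D.hun
    linear_combination h2 + D.τ (D.v l : PowerSeries k) ^ n * h1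

variable [hp : Fact p.Prime] [CharP k p]

include hp D in
theorem n_ne_zero : (n : k) ≠ 0 := by
  rw [Ne, CharP.cast_eq_zero_iff k p]; exact D.hpn

theorem v_p : D.v p = 1 := by
  haveI : CharP (PowerSeries k) p :=
    charP_of_injective_algebraMap (algebraMap k (PowerSeries k)).injective p
  obtain ⟨h0, h⟩ := D.v_spec p
  rw [CharP.cast_eq_zero (PowerSeries k) p, zero_mul, add_zero, mul_one] at h
  apply Units.ext
  have h1 : ((D.v p : PowerSeries k) - 1) * ∑ i ∈ Finset.range n, (D.v p : PowerSeries k) ^ i = 0 := by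
    rw [mul_geom_sum, h, sub_self]
  rcases mul_eq_zero.mp h1 with h2 | h2
  · exact sub_eq_zero.mp h2
  · have := congrArg constantCoeff h2
    simp [map_sum, h0] at this
    exact absurd this D.n_ne_zero

/-- `π = t^p w` is invariant -/
def W : (PowerSeries k)ˣ := ∏ l ∈ Finset.range p, D.v l

theorem τ_W : Units.map (D.τ : PowerSeries k →* PowerSeries k) D.W = D.W * (D.U ^ p)⁻¹ := by
  rw [_root_.eq_mul_inv_iff_mul_eq, mul_comm, W, map_prod]
  have h : ∏ l ∈ Finset.range p, D.v (l + 1)
      = ∏ l ∈ Finset.range p, D.U * Units.map (D.τ : PowerSeries k →* PowerSeries k) (D.v l) := rfl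
  rw [Finset.prod_mul_distrib, Finset.prod_const, Finset.card_range] at h
  rw [← h]
  have h1 := Finset.prod_range_succ' D.v p
  rw [Finset.prod_range_succ, D.v_p, mul_one, show D.v 0 = 1 from rfl, mul_one] at h1
  exact h1.symm

theorem constantCoeff_W : constantCoeff (D.W : PowerSeries k) = 1 := by
  rw [W, Units.coe_prod, map_prod]
  exact Finset.prod_eq_one fun l _ => (D.v_spec l).1

theorem constantCoeff_W_zpow (m : ℤ) :
    constantCoeff ((D.W ^ m : (PowerSeries k)ˣ) : PowerSeries k) = 1 := by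
  have h : Units.map (constantCoeff (R := k) : PowerSeries k →* k) D.W = 1 :=
    Units.ext D.constantCoeff_W
  have h2 := congrArg Units.val (map_zpow (Units.map (constantCoeff (R := k) : PowerSeries k →* k)) D.W m)
  rw [h, one_zpow] at h2
  exact h2

/-- `W ≡ 1` modulo `X^n` -/
theorem X_pow_dvd_W_sub_one : X ^ n ∣ (D.W : PowerSeries k) - 1 := by
  rw [← Ideal.mem_span_singleton, ← Ideal.Quotient.eq_zero_iff_mem, map_sub, map_one, sub_eq_zero,
    W, Units.coe_prod, map_prod]
  refine Finset.prod_eq_one fun l _ => ?_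
  rw [← map_one (Ideal.Quotient.mk (Ideal.span {(X : PowerSeries k) ^ n})), Ideal.Quotient.eq,
    Ideal.mem_span_singleton]
  obtain ⟨h0, h⟩ := D.v_spec l
  have hu : IsUnit (∑ i ∈ Finset.range n, (D.v l : PowerSeries k) ^ i) := by
    rw [isUnit_iff_constantCoeff, map_sum]
    simp [h0, D.n_ne_zero]
  rw [← hu.dvd_mul_right, mul_geom_sum]
  exact ⟨-((D.v l : PowerSeries k) ^ n * (l : PowerSeries k)), by linear_combination h⟩

theorem X_pow_dvd_W_zpow_sub_one (m : ℤ) :
    X ^ n ∣ ((D.W ^ m : (PowerSeries k)ˣ) : PowerSeries k) - 1 := by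
  rw [← Ideal.mem_span_singleton, ← Ideal.Quotient.eq, map_one]
  have h : Units.map (Ideal.Quotient.mk (Ideal.span {(X : PowerSeries k) ^ n})).toMonoidHom
      D.W = 1 := by
    apply Units.ext
    show Ideal.Quotient.mk _ (D.W : PowerSeries k) = 1
    rw [← map_one (Ideal.Quotient.mk (Ideal.span {(X : PowerSeries k) ^ n})), Ideal.Quotient.eq,
      Ideal.mem_span_singleton]
    exact D.X_pow_dvd_W_sub_one
  have h2 := congrArg Units.val (map_zpow (Units.map (Ideal.Quotient.mk
    (Ideal.span {(X : PowerSeries k) ^ n})).toMonoidHom) D.W m)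
  rw [h, one_zpow] at h2
  exact h2

end Dat

end Groth.Agent.ASH1
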