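import Mathlib
import Groth.Agent.ASH1.Series

set_option autoImplicit false
set_option linter.unusedSectionVars false

noncomputable section

namespace Groth.Agent.ASH1

open PowerSeries

universe u

variable {k : Type u} [Field k] {p n : ℕ}

namespace Dat

variable (D : Dat k p n) [hp : Fact p.Prime] [CharP k p] (a : ℤ)

/-- the position in a block -/
def jj (_D : Dat k p n) (d : ℕ) : ℕ := (-((a : ZMod p) + (d : ZMod p)) / (n : ZMod p)).val

/-- the block -/
def mm (d : ℕ) : ℤ := (a + d + n * (D.jj a d : ℕ)) / (p : ℤ)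

include D in
theorem n_ne_zero' : (n : ZMod p) ≠ 0 := by
  rw [Ne, ZMod.natCast_eq_zero_iff]; exact D.hpn

theorem jj_lt (d : ℕ) : D.jj a d < p := ZMod.val_lt _

theorem jj_spec (d : ℕ) : ((a : ZMod p) + d + n * (D.jj a d : ℕ)) = 0 := by
  rw [jj, ZMod.natCast_val, ZMod.cast_id, mul_div_cancel₀ _ D.n_ne_zero']
  ring

theorem pm_eq (d : ℕ) : (p : ℤ) * D.mm a d = a + d + n * (D.jj a d : ℕ) := by
  refine Int.mul_ediv_cancel' ?_
  rw [← ZMod.intCast_zmod_eq_zero_iff_dvd]
  push_cast
  exact D.jj_spec a d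

theorem jj_unique {d j : ℕ} {m : ℤ} (hj : j < p) (h : (p : ℤ) * m = a + d + n * (j : ℕ)) :
    D.jj a d = j ∧ D.mm a d = m := by
  have h1 : (a : ZMod p) + d + n * (j : ℕ) = 0 := by
    have := congrArg (Int.cast : ℤ → ZMod p) h
    push_cast at this
    rw [← this, ZMod.natCast_self, zero_mul]
  have hj' : D.jj a d = j := by
    rw [jj, show -((a : ZMod p) + d) = n * (j : ℕ) by linear_combination -h1,
      mul_div_cancel_left₀ _ D.n_ne_zero', ZMod.val_natCast_of_lt hj]
  refine ⟨hj', ?_⟩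
  have h2 := D.pm_eq a d
  rw [hj', ← h] at h2
  exact mul_left_cancel₀ (by exact_mod_cast hp.out.ne_zero) h2

theorem mm_eq_iff {d e : ℕ} (h : D.mm a d = D.mm a e) :
    (d : ℤ) + n * (D.jj a d : ℕ) = e + n * (D.jj a e : ℕ) := by
  have h1 := D.pm_eq a d
  have h2 := D.pm_eq a e
  rw [h, h2] at h1
  linarith

/-- the basis element -/
def e (d : ℕ) : PowerSeries k := X ^ d * ((D.W ^ D.mm a d : (PowerSeries k)ˣ) : PowerSeries k)

theorem coeff_e_self (d : ℕ) : coeff d (D.e a d) = 1 := by
  rw [e, coeff_X_pow_mul', if_pos le_rfl, Nat.sub_self, coeff_zero_eq_constantCoeff,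
    D.constantCoeff_W_zpow]

theorem coeff_e_of_lt {d i : ℕ} (h : i < d) : coeff i (D.e a d) = 0 := by
  rw [e, coeff_X_pow_mul', if_neg (by omega)]

/-- the expansion -/
def Φ : (ℕ → k) →ₗ[k] PowerSeries k where
  toFun c := PowerSeries.mk fun i => ∑ d ∈ Finset.range (i + 1), c d * coeff i (D.e a d)
  map_add' c c' := by ext i; simp [add_mul, Finset.sum_add_distrib]
  map_smul' r c := by ext i; simp [Finset.mul_sum, mul_assoc]

theorem coeff_Φ (c : ℕ → k) (i : ℕ) :
    coeff i (D.Φ a c) = (∑ d ∈ Finset.range i, c d * coeff i (D.e a d)) + c i := by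
  simp [Φ, Finset.sum_range_succ, coeff_e_self]

theorem Φ_bijective : Function.Bijective (D.Φ a) := by
  refine ⟨?_, fun f => ?_⟩
  · rw [injective_iff_map_eq_zero]
    intro c hc
    funext i
    induction i using Nat.strong_induction_on with
    | _ i ih =>
      have h := D.coeff_Φ a c i
      rw [hc, map_zero, Finset.sum_eq_zero fun d hd => by rw [ih d (Finset.mem_range.mp hd)]; simp,
        zero_add] at h
      exact h.symm
  · let c : ℕ → k := fun i => Nat.strongRecOn (motive := fun _ => k) i fun i ih =>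
      coeff i f - ∑ d : Fin i, ih d.1 d.2 * coeff i (D.e a d)
    refine ⟨c, PowerSeries.ext fun i => ?_⟩
    have hc : c i = coeff i f - ∑ d : Fin i, c d * coeff i (D.e a d) := by
      simp only [c]
      rw [Nat.strongRecOn_eq]
    rw [D.coeff_Φ, hc, ← Fin.sum_univ_eq_sum_range (fun d => c d * coeff i (D.e a d))]
    ring

/-- the expansion as an equivalence -/
def Φe : (ℕ → k) ≃ₗ[k] PowerSeries k := LinearEquiv.ofBijective (D.Φ a) (D.Φ_bijective a)

theorem Φ_single (d : ℕ) : D.Φ a (Pi.single d 1) = D.e a d := by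
  ext i
  simp only [Φ, LinearMap.coe_mk, AddHom.coe_mk, coeff_mk]
  by_cases h : d ≤ i
  · rw [Finset.sum_eq_single d (fun b _ hb => by simp [hb]) (by intro hd; simp at hd; omega)]
    simp
  · rw [D.coeff_e_of_lt a (by omega)]
    refine Finset.sum_eq_zero fun b hb => ?_
    simp only [Finset.mem_range] at hb
    simp [show b ≠ d by omega]

/-- the twisted action -/
def act : PowerSeries k →ₗ[k] PowerSeries k :=
  LinearMap.mulLeft k ((D.U ^ a : (PowerSeries k)ˣ) : PowerSeries k) ∘ₗ D.τ.toLinearMap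

theorem act_apply (h : PowerSeries k) :
    D.act a h = ((D.U ^ a : (PowerSeries k)ˣ) : PowerSeries k) * D.τ h := rfl

/-- the matrix of the action -/
def A (d d' : ℕ) : k := if D.mm a d = D.mm a d' then ((D.jj a d).choose (D.jj a d') : k) else 0

theorem A_of_gt {d d' : ℕ} (h : d' < d) : D.A a d d' = 0 := by
  unfold A
  split_ifs with hm
  · have := D.mm_eq_iff a hm
    have : D.jj a d < D.jj a d' := by
      by_contra hle
      have h1 : (n : ℤ) * (D.jj a d' : ℕ) ≤ n * (D.jj a d : ℕ) := by gcongr; omega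
      omega
    rw [Nat.choose_eq_zero_of_lt this, Nat.cast_zero]
  · rfl

/-- the action on coordinates -/
def R : (ℕ → k) →ₗ[k] (ℕ → k) where
  toFun c d' := ∑ d ∈ Finset.range (d' + 1), c d * D.A a d d'
  map_add' c c' := by funext i; simp [add_mul, Finset.sum_add_distrib]
  map_smul' r c := by funext i; simp [Finset.mul_sum, mul_assoc]

theorem act_e (d : ℕ) : D.act a (D.e a d) =
    (1 + X ^ n) ^ D.jj a d * (X ^ d * ((D.W ^ D.mm a d : (PowerSeries k)ˣ) : PowerSeries k)) := by
  have hτ : D.τ ((D.W ^ D.mm a d : (PowerSeries k)ˣ) : PowerSeries k)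
      = ((D.W * (D.U ^ p)⁻¹) ^ D.mm a d : (PowerSeries k)ˣ) := by
    rw [← D.τ_W, ← map_zpow]; rfl
  have hU : D.U ^ a * D.U ^ d * (D.W * (D.U ^ p)⁻¹) ^ D.mm a d
      = (D.U⁻¹ ^ n) ^ D.jj a d * D.W ^ D.mm a d := by
    rw [mul_zpow, mul_comm (D.W ^ D.mm a d), ← mul_assoc]
    congr 1
    rw [← zpow_natCast D.U d, ← zpow_natCast D.U p, ← zpow_neg, ← zpow_mul, ← zpow_add, ← zpow_add,
      ← pow_mul, inv_pow, ← zpow_natCast, ← zpow_neg]
    congr 1
    have := D.pm_eq a d
    push_cast
    linarith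
  have h2 := congrArg (fun x : (PowerSeries k)ˣ => (x : PowerSeries k)) hU
  simp only [Units.val_mul, Units.val_pow_eq_pow_val] at h2
  rw [← Units.val_pow_eq_pow_val, Units.val_pow_eq_pow_val] at h2
  rw [D.inv_U_pow] at h2
  rw [act_apply, e, map_mul, map_pow, τ_X, hτ, mul_pow]
  linear_combination (X : PowerSeries k) ^ d * h2

theorem coeff_act_e {d i : ℕ} (hdi : d ≤ i) :
    coeff i (D.act a (D.e a d)) = ∑ d' ∈ Finset.range (i + 1), D.A a d d' * coeff i (D.e a d') := by
  classical
  rw [act_e, add_comm (1 : PowerSeries k), add_pow, Finset.sum_mul, map_sum]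
  have hterm : ∀ l ∈ Finset.range (D.jj a d + 1),
      (X ^ n) ^ l * (1 : PowerSeries k) ^ (D.jj a d - l) * ((D.jj a d).choose l : PowerSeries k) *
        (X ^ d * ((D.W ^ D.mm a d : (PowerSeries k)ˣ) : PowerSeries k))
      = ((D.jj a d).choose l : k) • D.e a (d + n * l) ∧ D.mm a (d + n * l) = D.mm a d ∧
        D.jj a (d + n * l) = D.jj a d - l := by
    intro l hl
    simp only [Finset.mem_range] at hl
    obtain ⟨hj, hm⟩ := D.jj_unique a (d := d + n * l) (j := D.jj a d - l) (m := D.mm a d)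
      (by have := D.jj_lt a d; omega) (by
        rw [D.pm_eq]; push_cast [Nat.cast_sub (show l ≤ D.jj a d by omega)]; ring)
    refine ⟨?_, hm, hj⟩
    rw [e, hm, pow_add, pow_mul, smul_eq_C_mul, map_natCast]
    ring
  rw [Finset.sum_congr rfl fun l hl => by rw [(hterm l hl).1, map_smul, smul_eq_mul]]
  refine Finset.sum_bij_ne_zero (fun l _ _ => d + n * l) ?_ ?_ ?_ ?_
  · intro l hl h
    simp only [Finset.mem_range]
    by_contra hlt
    exact h (by rw [D.coeff_e_of_lt a (by omega), mul_zero])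
  · intro l _ _ l' _ _ h
    exact Nat.eq_of_mul_eq_mul_left D.hn (by omega)
  · intro d' hd' h
    have hm : D.mm a d = D.mm a d' := by
      by_contra hne
      exact h (by rw [A, if_neg hne, zero_mul])
    have hj : D.jj a d' ≤ D.jj a d := by
      by_contra hlt
      exact h (by rw [A, if_pos hm, Nat.choose_eq_zero_of_lt (by omega), Nat.cast_zero, zero_mul])
    have hd : d + n * (D.jj a d - D.jj a d') = d' := by
      have := D.mm_eq_iff a hm
      zify [hj]
      linarith
    refine ⟨D.jj a d - D.jj a d', Finset.mem_range.mpr (by omega), ?_, hd⟩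
    rw [hd, Nat.choose_symm hj]
    rwa [A, if_pos hm] at h
  · intro l hl h
    obtain ⟨-, hm, hj⟩ := hterm l hl
    simp only [Finset.mem_range] at hl
    rw [A, if_pos hm.symm, hj, Nat.choose_symm (by omega)]

theorem X_pow_dvd_act {N : ℕ} {f : PowerSeries k} (h : X ^ N ∣ f) : X ^ N ∣ D.act a f := by
  obtain ⟨r, rfl⟩ := h
  rw [act_apply, map_mul, map_pow, τ_X, mul_pow]
  exact Dvd.intro (((D.U ^ a : (PowerSeries k)ˣ) : PowerSeries k) * (D.U : PowerSeries k) ^ N * D.τ r)
    (by ring)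

theorem act_Φ (c : ℕ → k) : D.act a (D.Φ a c) = D.Φ a (D.R a c) := by
  ext i
  have h : X ^ (i + 1) ∣ D.Φ a c - ∑ d ∈ Finset.range (i + 1), c d • D.e a d := by
    rw [X_pow_dvd_iff]
    intro j hj
    rw [map_sub, map_sum, sub_eq_zero]
    simp only [Φ, LinearMap.coe_mk, AddHom.coe_mk, coeff_mk, map_smul, smul_eq_mul]
    refine Finset.sum_subset (fun x hx => ?_) fun x _ hx => ?_
    · simp only [Finset.mem_range] at hx ⊢; omega
    · simp only [Finset.mem_range] at hx
      rw [D.coeff_e_of_lt a (by omega), mul_zero]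
  have h2 := X_pow_dvd_iff.mp (D.X_pow_dvd_act a h) i (by omega)
  rw [map_sub, map_sub, sub_eq_zero] at h2
  rw [h2, map_sum, map_sum]
  simp only [Φ, R, LinearMap.coe_mk, AddHom.coe_mk, coeff_mk, map_smul, smul_eq_mul]
  rw [Finset.sum_congr rfl fun d hd => by
    rw [D.coeff_act_e a (by simp at hd; omega), Finset.mul_sum]]
  rw [Finset.sum_comm]
  refine Finset.sum_congr rfl fun d' hd' => ?_
  rw [Finset.sum_mul]
  refine (Finset.sum_congr rfl fun d _ => by rw [← mul_assoc]).trans ?_
  symm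
  refine Finset.sum_subset (fun x hx => ?_) fun x _ hx => ?_
  · simp only [Finset.mem_range] at hx hd' ⊢; omega
  · simp only [Finset.mem_range] at hx
    rw [D.A_of_gt a (by omega), mul_zero, zero_mul]

end Dat
end Groth.Agent.ASH1
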