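import Mathlib
import Groth.Agent.ASH1.Expansion

set_option autoImplicit false
set_option linter.unusedSectionVars false

noncomputable section

namespace Groth.Agent.ASH1

open PowerSeries

universe u

variable {k : Type u} [Field k] {p n : ℕ}

namespace Dat

variable (D : Dat k p n) [hp : Fact p.Prime] [CharP k p] (a : ℤ)

/-- `R - 1` -/
def Δ : Module.End k (ℕ → k) := D.R a - 1

theorem Δ_apply (c : ℕ → k) (d' : ℕ) :
    D.Δ a c d' = ∑ d ∈ Finset.range d', c d * D.A a d d' := by
  simp [Δ, R, Finset.sum_range_succ, A]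

theorem next_spec {d : ℕ} (hj : 0 < D.jj a d) :
    D.jj a (d + n) = D.jj a d - 1 ∧ D.mm a (d + n) = D.mm a d := by
  refine D.jj_unique a (by have := D.jj_lt a d; omega) ?_
  rw [D.pm_eq]
  push_cast [Nat.cast_sub (show 1 ≤ D.jj a d by omega)]
  ring

theorem prev_spec {d : ℕ} (hd : n ≤ d) (hj : D.jj a d + 1 < p) :
    D.jj a (d - n) = D.jj a d + 1 ∧ D.mm a (d - n) = D.mm a d := by
  refine D.jj_unique a hj ?_
  rw [D.pm_eq]
  push_cast [Nat.cast_sub hd]
  ring

/-- vanishing propagates -/
theorem Δ_zero {c : ℕ → k} {s : ℕ} (h : ∀ d, s ≤ D.jj a d → c d = 0) :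
    ∀ d, s ≤ D.jj a d + 1 → D.Δ a c d = 0 := by
  intro d' hd'
  rw [D.Δ_apply]
  refine Finset.sum_eq_zero fun d hd => ?_
  simp only [Finset.mem_range] at hd
  unfold A
  split_ifs with hm
  · have := D.mm_eq_iff a hm
    have hlt : D.jj a d' < D.jj a d := by
      by_contra hle
      have h1 : (n : ℤ) * (D.jj a d : ℕ) ≤ n * (D.jj a d' : ℕ) := by gcongr; omega
      omega
    rw [h d (by omega), zero_mul]
  · exact mul_zero _

theorem Δ_pow_zero {c : ℕ → k} {s : ℕ} (h : ∀ d, s ≤ D.jj a d → c d = 0) (r : ℕ) :
    ∀ d, s ≤ D.jj a d + r → ((D.Δ a) ^ r) c d = 0 := by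
  induction r with
  | zero => simpa using h
  | succ r ih =>
    intro d hd
    rw [pow_succ', Module.End.mul_apply]
    refine D.Δ_zero a (s := s - r) (fun d hd => ih d (by omega)) d (by omega)

/-- the top of a full block -/
theorem top_eq_zero {c : ℕ → k} (h : ((D.Δ a) ^ (p - 1)) c = 0) {d : ℕ}
    (hd : D.jj a d = p - 1) : c d = 0 := by
  have key : ∀ r ≤ p - 1, D.jj a (d + n * r) = p - 1 - r ∧ D.mm a (d + n * r) = D.mm a d ∧
      ∃ q : k, q ≠ 0 ∧ ((D.Δ a) ^ r) c (d + n * r) = q * c d := by
    intro r hr
    induction r with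
    | zero => exact ⟨by simpa using hd, by simp, 1, one_ne_zero, by simp⟩
    | succ r ih =>
      obtain ⟨hj, hm, q, hq, hv⟩ := ih (by omega)
      obtain ⟨hj', hm'⟩ := D.next_spec a (d := d + n * r) (by omega)
      rw [show d + n * (r + 1) = d + n * r + n by ring]
      refine ⟨by rw [hj', hj]; omega, hm'.trans hm, q * ((p - 1 - r : ℕ) : k), ?_, ?_⟩
      · refine mul_ne_zero hq ?_
        rw [Ne, CharP.cast_eq_zero_iff k p]
        exact fun hdvd => by
          have := Nat.le_of_dvd (by omega) hdvd
          have := hp.out.pos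
          omega
      · rw [pow_succ', Module.End.mul_apply, D.Δ_apply,
          Finset.sum_eq_single (d + n * r)]
        · rw [hv, A, if_pos hm'.symm, hj', hj]
          have : (p - 1 - r).choose (p - 1 - r - 1) = p - 1 - r := by
            rw [Nat.choose_symm (by omega), Nat.choose_one_right]
          rw [this]; ring
        · intro b hb hne
          unfold A
          split_ifs with hmb
          · have hjb : p - 1 - r - 1 < D.jj a b := by
              by_contra hle
              have := D.mm_eq_iff a hmb
              simp only [Finset.mem_range] at hb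
              have h1 : (n : ℤ) * (D.jj a b : ℕ) ≤ n * (D.jj a (d + n * r + n) : ℕ) := by
                gcongr; omega
              omega
            have hne' : D.jj a b ≠ p - 1 - r := by
              intro he
              have := D.mm_eq_iff a (hmb.trans hm')
              rw [he, hj] at this
              omega
            have := D.Δ_pow_zero a (c := c) (s := p) (fun x hx => absurd (D.jj_lt a x) (by omega)) r b
              (by omega)
            rw [this, zero_mul]
          · exact mul_zero _
        · intro hnot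
          exact absurd (Finset.mem_range.mpr (by have := D.hn; omega)) hnot
  obtain ⟨-, -, q, hq, hv⟩ := key (p - 1) le_rfl
  rw [h, Pi.zero_apply, eq_comm] at hv
  exact (mul_eq_zero.mp hv).resolve_left hq

/-- image of `Δ` -/
theorem exists_preimage (f : ℕ → k) (h1 : ∀ d, d < n → f d = 0)
    (h2 : ∀ d, D.jj a d = p - 1 → f d = 0) : ∃ c, D.Δ a c = f := by
  let c : ℕ → k := fun i => Nat.strongRecOn (motive := fun _ => k) i fun i ih =>
    if D.jj a i = 0 then 0
    else (f (i + n) - ∑ d : Fin i, ih d.1 d.2 * D.A a d (i + n)) / (D.jj a i : k)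
  have hc : ∀ i, D.jj a i ≠ 0 →
      c i * (D.jj a i : k) = f (i + n) - ∑ d ∈ Finset.range i, c d * D.A a d (i + n) := by
    intro i hi
    have hne : ((D.jj a i : ℕ) : k) ≠ 0 := by
      rw [Ne, CharP.cast_eq_zero_iff k p]
      intro hdvd
      have := Nat.le_of_dvd (by omega) hdvd
      have := D.jj_lt a i
      omega
    have : c i = (f (i + n) - ∑ d : Fin i, c d * D.A a d (i + n)) / (D.jj a i : k) := by
      simp only [c]
      rw [Nat.strongRecOn_eq, if_neg hi]
    rw [this, div_mul_cancel₀ _ hne, Fin.sum_univ_eq_sum_range (fun d => c d * D.A a d (i + n))]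
  refine ⟨c, funext fun d' => ?_⟩
  rw [D.Δ_apply]
  by_cases hd : n ≤ d' ∧ D.jj a d' + 1 < p
  · obtain ⟨i, rfl⟩ : ∃ i, d' = i + n := ⟨d' - n, by omega⟩
    obtain ⟨hj, hm⟩ := D.prev_spec a hd.1 hd.2
    rw [Nat.add_sub_cancel] at hj hm
    rw [← Finset.sum_subset (s₁ := Finset.range (i + 1)) (Finset.range_mono (by have := D.hn; omega))]
    · rw [Finset.sum_range_succ]
      have hA : D.A a i (i + n) = (D.jj a i : k) := by
        rw [A, if_pos hm, hj, Nat.choose_succ_self_right]
      rw [hA, hc i (by omega)]
      ring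
    · intro x hx hx'
      simp only [Finset.mem_range] at hx hx'
      unfold A
      split_ifs with hmx
      · have := D.mm_eq_iff a hmx
        rcases Nat.lt_or_ge (D.jj a (i + n)) (D.jj a x) with hlt | hge
        · have h1 : (n : ℤ) * ((D.jj a (i + n) : ℕ) + 1) ≤ n * (D.jj a x : ℕ) := by
            gcongr; omega
          rw [mul_add, mul_one] at h1
          omega
        · rw [Nat.choose_eq_zero_of_lt (by
            rcases hge.lt_or_eq with h | h
            · exact h
            · rw [h] at this; omega)]
          simp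
      · exact mul_zero _
  · have hf : f d' = 0 := by
      by_cases hlt : d' < n
      · exact h1 d' hlt
      · exact h2 d' (by have := D.jj_lt a d'; omega)
    rw [hf]
    refine Finset.sum_eq_zero fun x hx => ?_
    simp only [Finset.mem_range] at hx
    unfold A
    split_ifs with hmx
    · have := D.mm_eq_iff a hmx
      have hlt : D.jj a d' < D.jj a x := by
        by_contra hle
        have h1 : (n : ℤ) * (D.jj a x : ℕ) ≤ n * (D.jj a d' : ℕ) := by gcongr; omega
        omega
      have h1 : (n : ℤ) * ((D.jj a d' : ℕ) + 1) ≤ n * (D.jj a x : ℕ) := by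
        gcongr; omega
      rw [mul_add, mul_one] at h1
      have := D.jj_lt a x
      omega
    · exact mul_zero _

/-- coordinates below `n` of a coboundary vanish -/
theorem Δ_lt {c : ℕ → k} {d : ℕ} (hd : d < n) : D.Δ a c d = 0 := by
  rw [D.Δ_apply]
  refine Finset.sum_eq_zero fun x hx => ?_
  simp only [Finset.mem_range] at hx
  unfold A
  split_ifs with hmx
  · have := D.mm_eq_iff a hmx
    have hlt : D.jj a d < D.jj a x := by
      by_contra hle
      have h1 : (n : ℤ) * (D.jj a x : ℕ) ≤ n * (D.jj a d : ℕ) := by gcongr; omega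
      omega
    have h1 : (n : ℤ) * ((D.jj a d : ℕ) + 1) ≤ n * (D.jj a x : ℕ) := by gcongr; omega
    rw [mul_add, mul_one] at h1
    omega
  · exact mul_zero _

theorem act_sub (c : ℕ → k) : D.act a (D.Φ a c) - D.Φ a c = D.Φ a (D.Δ a c) := by
  rw [act_Φ, ← map_sub]; rfl

end Dat
end Groth.Agent.ASH1
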