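import Mathlib
import Groth.Agent.ASH1.Blocks

set_option autoImplicit false
set_option linter.unusedSectionVars false

noncomputable section

namespace Groth.Agent.ASH1

open PowerSeries groupCohomology

universe u

variable {k : Type u} [Field k] {p n : ℕ}

namespace Dat

variable (D : Dat k p n) [hp : Fact p.Prime] [CharP k p] (a : ℤ)

/-- the indices of a basis of `H¹` -/
def S : Finset ℕ := (Finset.range n).filter fun d => D.jj a d ≠ p - 1

variable {G : Type u} [Group G] (g : G) (hG : Nat.card G = p) (hg : ∀ x : G, x ∈ Subgroup.zpowers g)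
  (ρ : Representation k G (PowerSeries k)) (hρ : ∀ h, ρ g h = D.act a h)

include hG hg in
theorem orderOf_g : orderOf g = p := by
  rw [orderOf_eq_card_of_forall_mem_zpowers hg, hG]

include hG hg in
theorem exists_pow (x : G) : ∃ l : ℕ, g ^ l = x := by
  haveI : Finite G := Nat.finite_of_card_ne_zero (by rw [hG]; exact hp.out.ne_zero)
  obtain ⟨l, hl⟩ := (mem_powers_iff_mem_zpowers (x := g) (y := x)).mpr (hg x)
  exact ⟨l, hl⟩

theorem geom_eq (T : Module.End k (PowerSeries k)) :
    ∑ l ∈ Finset.range p, T ^ l = (T - 1) ^ (p - 1) := by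
  have h : (∑ l ∈ Finset.range p, (Polynomial.X : Polynomial k) ^ l)
      = (Polynomial.X - 1) ^ (p - 1) := by
    have hne : (Polynomial.X - 1 : Polynomial k) ≠ 0 := Polynomial.X_sub_C_ne_zero 1
    apply mul_left_cancel₀ hne
    rw [mul_geom_sum, ← pow_succ', Nat.sub_add_cancel hp.out.one_lt.le, sub_pow_char, one_pow]
  have := congrArg (Polynomial.aeval T) h
  simpa using this

include hρ in
theorem rho_sub (c : ℕ → k) : (ρ g - 1) (D.Φ a c) = D.Φ a (D.Δ a c) := by
  rw [LinearMap.sub_apply, Module.End.one_apply, hρ, D.act_sub]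

include hρ in
theorem rho_sub_pow (c : ℕ → k) (r : ℕ) :
    ((ρ g - 1) ^ r) (D.Φ a c) = D.Φ a (((D.Δ a) ^ r) c) := by
  induction r with
  | zero => simp
  | succ r ih => rw [pow_succ', pow_succ', Module.End.mul_apply, ih, Module.End.mul_apply,
      D.rho_sub a g ρ hρ]

/-- partial sums -/
def psum (f : PowerSeries k) (l : ℕ) : PowerSeries k := ∑ i ∈ Finset.range l, ((ρ g) ^ i) f

theorem psum_add (f : PowerSeries k) (l l' : ℕ) :
    psum g ρ f (l + l') = psum g ρ f l + ((ρ g) ^ l) (psum g ρ f l') := by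
  simp [psum, Finset.sum_range_add, map_sum, ← Module.End.mul_apply, ← pow_add]

theorem cocycle_pow (c : cocycles₁ (Rep.of ρ)) (l : ℕ) : c (g ^ l) = psum g ρ (c g) l := by
  induction l with
  | zero => simp [psum]
  | succ l ih =>
    have h := (mem_cocycles₁_iff (c : G → PowerSeries k)).1 c.2 (g ^ l) g
    rw [pow_succ]
    refine h.trans ?_
    show ρ (g ^ l) (c g) + c (g ^ l) = _
    rw [ih, psum, psum, Finset.sum_range_succ, ← map_pow, add_comm]

include hG hg in
theorem cocycle_norm (c : cocycles₁ (Rep.of ρ)) : psum g ρ (c g) p = 0 := by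
  rw [← cocycle_pow, ← orderOf_g g hG hg, pow_orderOf_eq_one, cocycles₁_map_one]

include hG hg in
theorem exists_cocycle (f : PowerSeries k) (hf : psum g ρ f p = 0) :
    ∃ c : cocycles₁ (Rep.of ρ), c g = f := by
  classical
  choose l hl using exists_pow g hG hg
  have hord := orderOf_g g hG hg
  have hmul : ∀ q, psum g ρ f (p * q) = 0 := by
    intro q
    induction q with
    | zero => simp [psum]
    | succ q ih => rw [mul_add, mul_one, psum_add, ih, hf, map_zero, add_zero]
  have hmod : ∀ x y : ℕ, g ^ x = g ^ y → psum g ρ f x = psum g ρ f y := by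
    intro x y h
    rw [pow_eq_pow_iff_modEq, hord] at h
    rw [← Nat.mod_add_div x p, ← Nat.mod_add_div y p, psum_add, psum_add, hmul, hmul, h]
  refine ⟨⟨fun x => psum g ρ f (l x), (mem_cocycles₁_iff _).2 fun x y => ?_⟩, ?_⟩
  · have h : g ^ (l (x * y)) = g ^ (l x + l y) := by rw [pow_add, hl, hl, hl]
    have hx : ρ x = (ρ g) ^ (l x) := by rw [← map_pow, hl]
    show psum g ρ f (l (x * y)) = ρ x (psum g ρ f (l y)) + psum g ρ f (l x)
    rw [hmod _ _ h, psum_add, hx, add_comm]
  · show psum g ρ f (l g) = f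
    rw [hmod (l g) 1 (by rw [hl, pow_one])]
    simp [psum]

/-- the coordinates of a class -/
def Ψ : cocycles₁ (Rep.of ρ) →ₗ[k] (↥(D.S a) → k) where
  toFun c d := (D.Φe a).symm (c g) d.1
  map_add' c c' := by
    funext d
    show (D.Φe a).symm (c g + c' g) d.1 = _
    rw [map_add]; rfl
  map_smul' r c := by
    funext d
    show (D.Φe a).symm (r • c g) d.1 = _
    rw [map_smul]; rfl

include hρ hG hg in
theorem Ψ_surjective : Function.Surjective (D.Ψ a g ρ) := by
  classical
  intro v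
  let w : ℕ → k := fun d => if h : d ∈ D.S a then v ⟨d, h⟩ else 0
  have hw : ∀ d, p - 1 ≤ D.jj a d → w d = 0 := fun d hd => by
    refine dif_neg fun h => ?_
    have := (Finset.mem_filter.mp h).2
    have := D.jj_lt a d
    omega
  have hN : psum g ρ (D.Φ a w) p = 0 := by
    rw [psum, ← LinearMap.sum_apply, geom_eq, D.rho_sub_pow a g ρ hρ]
    have : ((D.Δ a) ^ (p - 1)) w = 0 := funext fun d => D.Δ_pow_zero a hw (p - 1) d (by omega)
    rw [this, map_zero]
  obtain ⟨c, hc⟩ := exists_cocycle g hG hg ρ _ hN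
  refine ⟨c, funext fun d => ?_⟩
  show (D.Φe a).symm (c g) d.1 = _
  rw [hc, show (D.Φe a).symm (D.Φ a w) = w from (D.Φe a).symm_apply_apply w]
  simp [w, d.2]

include hρ hG hg in
theorem ker_Ψ : LinearMap.ker (D.Ψ a g ρ) = LinearMap.ker (H1π (Rep.of ρ)).hom := by
  ext c
  rw [LinearMap.mem_ker, LinearMap.mem_ker]
  rw [H1π_eq_zero_iff]
  constructor
  · intro h
    set f := (D.Φe a).symm (c g) with hf
    have hcg : c g = D.Φ a f := ((D.Φe a).apply_symm_apply (c g)).symm
    have hN : ((D.Δ a) ^ (p - 1)) f = 0 := by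
      have := cocycle_norm g hG hg ρ c
      rw [psum, ← LinearMap.sum_apply, geom_eq, hcg, D.rho_sub_pow a g ρ hρ] at this
      exact (D.Φ_bijective a).1 (by rw [this, map_zero])
    obtain ⟨h0, hh⟩ := D.exists_preimage a f (fun d hd => by
      by_cases hj : D.jj a d = p - 1
      · exact D.top_eq_zero a hN hj
      · exact congrFun h ⟨d, Finset.mem_filter.mpr ⟨Finset.mem_range.mpr hd, hj⟩⟩)
      (fun d hd => D.top_eq_zero a hN hd)
    refine ⟨D.Φ a h0, funext fun x => ?_⟩
    obtain ⟨l, rfl⟩ := exists_pow g hG hg x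
    show ρ (g ^ l) (D.Φ a h0) - D.Φ a h0 = c (g ^ l)
    rw [cocycle_pow, psum, hcg, ← hh, ← D.rho_sub a g ρ hρ, ← LinearMap.sum_apply,
      ← Module.End.mul_apply, geom_sum_mul, map_pow, LinearMap.sub_apply, Module.End.one_apply]
  · rintro ⟨h0, hh⟩
    obtain ⟨w, rfl⟩ := (D.Φ_bijective a).2 h0
    funext d
    have hcg : c g = D.Φ a (D.Δ a w) := by
      rw [← congrFun hh g, ← D.rho_sub a g ρ hρ]; rfl
    show (D.Φe a).symm (c g) d.1 = 0
    rw [hcg, show (D.Φe a).symm (D.Φ a (D.Δ a w)) = D.Δ a w from (D.Φe a).symm_apply_apply _]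
    exact D.Δ_lt a (Finset.mem_range.mp (Finset.mem_filter.mp d.2).1)

theorem H1π_surjective : Function.Surjective (H1π (Rep.of ρ)).hom := by
  intro x
  induction x using H1_induction_on with
  | h c => exact ⟨c, rfl⟩

include hρ hG hg in
/-- `H¹` in coordinates -/
theorem exists_equiv : ∃ e : H1 (Rep.of ρ) ≃ₗ[k] (↥(D.S a) → k),
    ∀ c, e ((H1π (Rep.of ρ)).hom c) = D.Ψ a g ρ c := by
  let e1 := (H1π (Rep.of ρ)).hom.quotKerEquivOfSurjective (H1π_surjective ρ)
  let e2 := (D.Ψ a g ρ).quotKerEquivOfSurjective (D.Ψ_surjective a g hG hg ρ hρ)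
  refine ⟨e1.symm.trans ((Submodule.quotEquivOfEq _ _ (D.ker_Ψ a g hG hg ρ hρ).symm).trans e2),
    fun c => ?_⟩
  have h1 : e1.symm ((H1π (Rep.of ρ)).hom c) = Submodule.Quotient.mk c := by
    rw [LinearEquiv.symm_apply_eq]; rfl
  rw [LinearEquiv.trans_apply, h1]
  rfl

theorem count_dvd (x : ℤ) (m : ℕ) :
    (((Finset.range m).filter fun d : ℕ => (p : ℤ) ∣ x + d).card : ℤ) =
      (x - 1 + m) / (p : ℤ) - (x - 1) / (p : ℤ) := by
  have hp0 : (0 : ℤ) < p := by exact_mod_cast hp.out.pos
  induction m with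
  | zero => simp
  | succ m ih =>
    rw [Finset.range_add_one, Finset.filter_insert]
    push_cast
    by_cases h : (p : ℤ) ∣ x + m
    · rw [if_pos h, Finset.card_insert_of_notMem (by simp)]
      push_cast
      rw [ih]
      obtain ⟨q, hq⟩ := h
      rw [show x - 1 + ((m : ℤ) + 1) = p * q by linarith, show x - 1 + (m : ℤ) = p * q + -1 by linarith,
        Int.mul_ediv_cancel_left _ hp0.ne']
      rw [Int.mul_add_ediv_left _ _ hp0.ne', Int.ediv_eq_neg_one_of_neg_of_le (by norm_num) (by omega)]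
      ring
    · rw [if_neg h, ih]
      congr 1
      have h1 := Int.emod_add_mul_ediv (x - 1 + m) p
      have h2 := Int.emod_nonneg (x - 1 + m) hp0.ne'
      have h3 := Int.emod_lt_of_pos (x - 1 + m) hp0
      have h4 : (x - 1 + m) % (p : ℤ) + 1 ≠ p := fun he =>
        h ⟨(x - 1 + m) / p + 1, by linarith⟩
      exact ((Int.ediv_emod_unique (a := x - 1 + ((m : ℤ) + 1)) (q := (x - 1 + m) / (p : ℤ))
        (r := (x - 1 + m) % (p : ℤ) + 1) hp0).mpr
        ⟨by linarith, by omega, by omega⟩).1.symm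

end Dat
end Groth.Agent.ASH1
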