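import Mathlib
import Groth.Agent.ASH1.Cohomology

set_option autoImplicit false
set_option linter.unusedSectionVars false

noncomputable section

namespace Groth.Agent.ASH1

open PowerSeries

universe u

variable {k : Type u} [Field k] {p n : ℕ}

namespace Dat

variable (D : Dat k p n) [hp : Fact p.Prime] [CharP k p] (a : ℤ)

theorem jj_eq_zero_iff (d : ℕ) : D.jj a d = 0 ↔ (p : ℤ) ∣ a + d := by
  constructor
  · intro h
    exact ⟨D.mm a d, by have := D.pm_eq a d; rw [h] at this; simp at this; linarith⟩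
  · rintro ⟨q, hq⟩
    exact (D.jj_unique a hp.out.pos (m := q) (by simp; linarith)).1

theorem jj_eq_top_iff (d : ℕ) : D.jj a d = p - 1 ↔ (p : ℤ) ∣ a - n + d := by
  have h1 : 1 ≤ p := hp.out.pos
  constructor
  · intro h
    have := D.pm_eq a d
    rw [h] at this
    push_cast [Nat.cast_sub h1] at this
    exact ⟨D.mm a d - n, by linarith⟩
  · rintro ⟨q, hq⟩
    refine (D.jj_unique a (j := p - 1) (by omega) (m := q + n) ?_).1
    push_cast [Nat.cast_sub h1]
    linarith

theorem coeff_W_zpow {i : ℕ} (hi : i < n) (m : ℤ) :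
    coeff i ((D.W ^ m : (PowerSeries k)ˣ) : PowerSeries k) = if i = 0 then 1 else 0 := by
  have := X_pow_dvd_iff.mp (D.X_pow_dvd_W_zpow_sub_one m) i hi
  rw [map_sub, sub_eq_zero] at this
  rw [this, coeff_one]

theorem coeff_e_low {d i : ℕ} (hi : i < n) : coeff i (D.e a d) = if i = d then 1 else 0 := by
  rw [e, coeff_X_pow_mul']
  split_ifs with h1 h2 h2
  · subst h2; rw [Nat.sub_self, D.coeff_W_zpow D.hn]; simp
  · rw [D.coeff_W_zpow (by omega), if_neg (by omega)]
  · omega
  · rfl

/-- below `n` coordinates are coefficients -/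
theorem coord_low (f : PowerSeries k) {i : ℕ} (hi : i < n) : (D.Φe a).symm f i = coeff i f := by
  conv_rhs => rw [← (D.Φe a).apply_symm_apply f]
  show _ = coeff i (D.Φ a _)
  rw [D.coeff_Φ, Finset.sum_eq_zero, zero_add]
  intro d hd
  simp only [Finset.mem_range] at hd
  rw [D.coeff_e_low a hi, if_neg (by omega), mul_zero]

theorem act_X_pow_mul (l : ℕ) (f : PowerSeries k) :
    D.act a (X ^ l * f) = X ^ l * D.act (a + l) f := by
  rw [act_apply, act_apply, map_mul, map_pow, τ_X, zpow_add, zpow_natCast, Units.val_mul,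
    Units.val_pow_eq_pow_val, mul_pow]
  ring

theorem act_W (m : ℤ) :
    D.act (p * m) ((D.W ^ m : (PowerSeries k)ˣ) : PowerSeries k)
      = ((D.W ^ m : (PowerSeries k)ˣ) : PowerSeries k) := by
  have hτ : D.τ ((D.W ^ m : (PowerSeries k)ˣ) : PowerSeries k)
      = ((D.W * (D.U ^ p)⁻¹) ^ m : (PowerSeries k)ˣ) := by
    rw [← D.τ_W, ← map_zpow]; rfl
  rw [act_apply, hτ, ← Units.val_mul]
  congr 1
  rw [mul_zpow, inv_zpow, ← zpow_natCast D.U p, ← zpow_mul]
  exact mul_left_comm _ _ _ |>.trans (by rw [mul_inv_cancel, mul_one])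

theorem Δ_shift {c : ℕ → k} {d : ℕ} (h : ∀ x < d, c x = 0) (hj : 0 < D.jj a d) :
    D.Δ a c (d + n) = c d * (D.jj a d : k) := by
  obtain ⟨hj', hm⟩ := D.next_spec a hj
  rw [D.Δ_apply, Finset.sum_eq_single d]
  · rw [A, if_pos hm.symm, hj',
      Nat.choose_symm (n := D.jj a d) (k := 1) (by omega), Nat.choose_one_right]
  · intro x hx hne
    rcases lt_or_gt_of_ne hne with hlt | hgt
    · rw [h x hlt, zero_mul]
    · simp only [Finset.mem_range] at hx
      unfold A
      split_ifs with hmx
      · have := D.mm_eq_iff a hmx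
        rcases Nat.lt_or_ge (D.jj a (d + n)) (D.jj a x) with hlt | hge
        · have h1 : (n : ℤ) * ((D.jj a (d + n) : ℕ) + 1) ≤ n * (D.jj a x : ℕ) := by
            gcongr; omega
          rw [mul_add, mul_one] at h1
          omega
        · rw [Nat.choose_eq_zero_of_lt (by
            rcases hge.lt_or_eq with h | h
            · exact h
            · rw [h] at this; omega)]
          simp
      · exact mul_zero _
  · intro hnot
    exact absurd (Finset.mem_range.mpr (by have := D.hn; omega)) hnot

end Dat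
end Groth.Agent.ASH1
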